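import Cfsg.Prelude.Def_KGroupFacts
import Mathlib

/-!
# A central extension by transfer

A central extension `τ : K → H` of a subgroup `H` of `G` and a section `t` of an action of `G` give a
central extension of `G` (the corestriction). If two commuting elements of `G` have lifts whose
commutator is non-trivial, it is a stem extension by a group of prime order.
-/

set_option autoImplicit false

namespace Cfsg.Agent.Lib.Compute.Transfer

open scoped commutatorElement
open Subgroup

universe u v w

variable {G : Type u} [Group G] {ι : Type w} [MulAction G ι] {K : Type v} [Group K]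

/-- `G` permutes the coordinates of `ι → K`. -/
def permAut : G →* MulAut (ι → K) where
  toFun g :=
    { toFun := fun f j => f (g⁻¹ • j)
      invFun := fun f j => f (g • j)
      left_inv := fun f => funext fun j => by simp
      right_inv := fun f => funext fun j => by simp
      map_mul' := fun _ _ => rfl }
  map_one' := MulEquiv.ext fun f => funext fun j => by simp
  map_mul' a b := MulEquiv.ext fun f => funext fun j => by simp [mul_smul]

/-- The monomial group. -/
abbrev Wr (G : Type u) [Group G] (ι : Type w) [MulAction G ι] (K : Type v) [Group K] :=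
  (ι → K) ⋊[(permAut : G →* MulAut (ι → K))] G

theorem left_mul (x y : Wr G ι K) (i : ι) :
    (x * y).left ((x * y).right • i) = x.left (x.right • (y.right • i)) * y.left (y.right • i) := by
  simp [SemidirectProduct.mul_left, SemidirectProduct.mul_right, permAut, mul_smul]

variable {H : Subgroup G} (τ : K →* H) (t : ι → G)

/-- Elements whose coordinates lie over the cocycle of the section. -/
def coverSub : Subgroup (Wr G ι K) where
  carrier := {x | ∀ i, (τ (x.left (x.right • i)) : G) = (t (x.right • i))⁻¹ * x.right * t i}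
  one_mem' i := by simp
  mul_mem' {x y} hx hy i := by
    rw [left_mul, map_mul, Subgroup.coe_mul, hx, hy]
    simp [SemidirectProduct.mul_right, mul_smul, mul_assoc]
  inv_mem' {x} hx i := by
    have h := hx (x.right⁻¹ • i)
    rw [smul_inv_smul] at h
    simp [SemidirectProduct.inv_left, SemidirectProduct.inv_right, permAut, h, mul_assoc]

/-- The projection. -/
def proj : coverSub τ t →* G := SemidirectProduct.rightHom.comp (coverSub τ t).subtype

theorem mem_ker_proj {x : coverSub τ t} (hx : x ∈ (proj τ t).ker) (i : ι) :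
    (x : Wr G ι K).left i ∈ τ.ker := by
  have hx : (x : Wr G ι K).right = 1 := hx
  have h := x.2 i
  rw [hx, one_smul, mul_one, inv_mul_cancel] at h
  exact Subtype.ext h

/-- A coordinatewise lift of an element. -/
noncomputable def liftOf (g : G) (f : ι → K)
    (hf : ∀ i, (τ (f i) : G) = (t (g • i))⁻¹ * g * t i) : coverSub τ t :=
  ⟨⟨fun j => f (g⁻¹ • j), g⟩, fun i => by simpa using hf i⟩

theorem liftOf_left (g : G) (f : ι → K) (hf : ∀ i, (τ (f i) : G) = (t (g • i))⁻¹ * g * t i) (i : ι) :
    (liftOf τ t g f hf : Wr G ι K).left (g • i) = f i := by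
  simp [liftOf]

variable [Finite G] [Finite K] [Finite ι]

theorem exists_transfer_cover (hτs : Function.Surjective τ) (hτc : τ.ker ≤ center K) {p : ℕ}
    [Fact p.Prime] (hcard : Nat.card τ.ker = p) (ht : ∀ g i, (t (g • i))⁻¹ * g * t i ∈ H)
    {a b : G} (hab : a * b = b * a) {fa fb : ι → K}
    (hfa : ∀ i, (τ (fa i) : G) = (t (a • i))⁻¹ * a * t i)
    (hfb : ∀ i, (τ (fb i) : G) = (t (b • i))⁻¹ * b * t i)
    {l : List ι} (hnd : l.Nodup) (hmem : ∀ i, i ∈ l)
    (hne : (l.map fun i => (fa (b • i) * fb i) * (fb (a • i) * fa i)⁻¹).prod ≠ 1) :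
    ∃ (E : Type (max (max u w) v)) (_ : Group E) (_ : Finite E) (π : E →* G),
      Cfsg.IsStemExtension π ∧ Nat.card π.ker = p ∧ IsCyclic π.ker := by
  classical
  haveI : Fintype ι := Fintype.ofFinite ι
  letI : CommGroup τ.ker :=
    { (inferInstance : Group τ.ker) with
      mul_comm := fun x y => Subtype.ext (mem_center_iff.1 (hτc y.2) x.1) }
  let W := coverSub τ t
  have : Finite (Wr G ι K) := Finite.of_equiv _ SemidirectProduct.equivProd.symm
  let S : (proj τ t).ker →* τ.ker :=
    { toFun := fun x => ∏ i : ι, ⟨(x.1 : Wr G ι K).left i, mem_ker_proj τ t x.2 i⟩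
      map_one' := Finset.prod_eq_one fun i _ => Subtype.ext (by simp)
      map_mul' := fun x y => by
        rw [← Finset.prod_mul_distrib]
        refine Finset.prod_congr rfl fun i _ => Subtype.ext ?_
        have hx : (x.1 : Wr G ι K).right = 1 := x.2
        simp [SemidirectProduct.mul_left, hx] }
  let N : Subgroup W := S.ker.map (proj τ t).ker.subtype
  have hN : ∀ {x : W} (hx : x ∈ (proj τ t).ker), x ∈ N ↔ S ⟨x, hx⟩ = 1 := fun {x} hx => by
    constructor
    · rintro ⟨y, hy, rfl⟩
      exact hy
    · exact fun h => ⟨⟨x, hx⟩, h, rfl⟩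
  have hconj : ∀ (y : W) {x : W} (hx : x ∈ (proj τ t).ker),
      S ⟨y * x * y⁻¹, (proj τ t).normal_ker.conj_mem x hx y⟩ = S ⟨x, hx⟩ := by
    intro y x hx
    have hx1 : (x : Wr G ι K).right = 1 := hx
    refine Fintype.prod_equiv (MulAction.toPerm ((y : Wr G ι K).right⁻¹)) _ _ fun i => Subtype.ext ?_
    have hk := mem_center_iff.1 (hτc (mem_ker_proj τ t hx ((y : Wr G ι K).right⁻¹ • i)))
      ((y : Wr G ι K).left i)
    simp only [Subgroup.coe_mul, Subgroup.coe_inv, SemidirectProduct.mul_left,
      SemidirectProduct.mul_right, SemidirectProduct.inv_left, hx1, mul_one, Pi.mul_apply,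
      MulAction.toPerm_apply]
    simp [permAut, hk, mul_assoc]
  haveI : N.Normal := ⟨fun x hx y => by
    have hxk : x ∈ (proj τ t).ker := Subgroup.map_subtype_le _ hx
    rw [hN ((proj τ t).normal_ker.conj_mem x hxk y), hconj y hxk]
    exact (hN hxk).1 hx⟩
  let π : W ⧸ N →* G := QuotientGroup.lift N (proj τ t) (Subgroup.map_subtype_le _)
  have hπs : Function.Surjective π := fun g => by
    choose f hf using fun i => hτs ⟨_, ht g i⟩
    exact ⟨QuotientGroup.mk' N (liftOf τ t g f fun i => congrArg Subtype.val (hf i)), rfl⟩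
  let A := liftOf τ t a fa hfa
  let B := liftOf τ t b fb hfb
  let c : W := ⁅A, B⁆
  have hc : c ∈ (proj τ t).ker := by
    show proj τ t ⁅A, B⁆ = 1
    rw [map_commutatorElement, commutatorElement_eq_one_iff_mul_comm]
    exact hab
  have hSc : S ⟨c, hc⟩ ≠ 1 := by
    intro h
    refine hne ?_
    have key : ∀ i, (c : Wr G ι K).left ((b * a) • i) =
        (fa (b • i) * fb i) * (fb (a • i) * fa i)⁻¹ := by
      intro i
      have e : c * (B * A) = A * B := by simp [c, commutatorElement_def, mul_assoc]
      have e1 := congrArg (fun z : W => (z : Wr G ι K).left ((z : Wr G ι K).right • i)) e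
      simp only [Subgroup.coe_mul] at e1
      rw [left_mul, left_mul, left_mul] at e1
      have hAr : (A : Wr G ι K).right = a := rfl
      have hBr : (B : Wr G ι K).right = b := rfl
      have hcr : (c : Wr G ι K).right = 1 := hc
      rw [SemidirectProduct.mul_right, hAr, hBr, hcr, one_smul, liftOf_left, liftOf_left, liftOf_left,
        liftOf_left] at e1
      rw [← e1, mul_inv_cancel_right]
    have h2 : (∏ i : ι, (⟨(c : Wr G ι K).left ((b * a) • i), mem_ker_proj τ t hc _⟩ : τ.ker)) = 1 := by
      rw [← h]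
      exact Fintype.prod_equiv (MulAction.toPerm (b * a)) _ _ fun i => rfl
    have h3 := congrArg τ.ker.subtype h2
    rw [map_one, show (Finset.univ : Finset ι) = l.toFinset from Finset.ext fun i => by simp [hmem],
      List.prod_toFinset _ hnd, map_list_prod, List.map_map] at h3
    rw [← h3]
    exact congrArg List.prod (List.map_congr_left fun i _ => (key i).symm)
  have hker : π.ker = zpowers (QuotientGroup.mk' N c) := by
    refine le_antisymm ?_ (zpowers_le.2 hc)
    intro q hq
    obtain ⟨x, rfl⟩ := QuotientGroup.mk'_surjective N q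
    have hx : x ∈ (proj τ t).ker := hq
    have hmem := mem_zpowers_of_prime_card hcard hSc (g' := S ⟨x, hx⟩)
    obtain ⟨k, hk⟩ := hmem
    refine ⟨k, ?_⟩
    show (QuotientGroup.mk' N c) ^ k = _
    rw [← map_zpow]
    refine (QuotientGroup.mk'_eq_mk' N).2 ⟨(c ^ k)⁻¹ * x, ?_, by group⟩
    have hck : (c ^ k)⁻¹ * x ∈ (proj τ t).ker := mul_mem (inv_mem (zpow_mem hc k)) hx
    rw [hN hck, show (⟨(c ^ k)⁻¹ * x, hck⟩ : (proj τ t).ker) = (⟨c, hc⟩ ^ k)⁻¹ * ⟨x, hx⟩ from
      Subtype.ext (by simp), map_mul, map_inv, map_zpow]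
    exact (congrArg (fun z => z⁻¹ * S ⟨x, hx⟩) hk).trans (inv_mul_cancel _)
  have hord : orderOf (QuotientGroup.mk' N c) = p := by
    refine orderOf_eq_prime ?_ fun h => hSc ((hN hc).1 ((QuotientGroup.eq_one_iff c).1 h))
    rw [← map_pow]
    refine (QuotientGroup.eq_one_iff (c ^ p)).2 ((hN (pow_mem hc p)).2 ?_)
    rw [show (⟨c ^ p, pow_mem hc p⟩ : (proj τ t).ker) = ⟨c, hc⟩ ^ p from rfl, map_pow, ← hcard]
    exact pow_card_eq_one'
  refine ⟨W ⧸ N, inferInstance, inferInstance, π, ⟨hπs, ?_, ?_⟩, ?_, ?_⟩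
  · rw [hker, zpowers_le, mem_center_iff]
    intro q
    obtain ⟨y, rfl⟩ := QuotientGroup.mk'_surjective N q
    rw [← map_mul, ← map_mul]
    refine (QuotientGroup.mk'_eq_mk' N).2 ⟨(y * c)⁻¹ * (c * y), ?_, by group⟩
    have hk : (y * c)⁻¹ * (c * y) = c⁻¹ * (y⁻¹ * c * y) := by group
    have hyc : y⁻¹ * c * y ∈ (proj τ t).ker := by
      simpa using (proj τ t).normal_ker.conj_mem c hc y⁻¹
    rw [hk, hN (mul_mem (inv_mem hc) hyc)]
    have := hconj y⁻¹ hc
    simp only [inv_inv] at this
    rw [show (⟨c⁻¹ * (y⁻¹ * c * y), mul_mem (inv_mem hc) hyc⟩ : (proj τ t).ker) =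
      ⟨c, hc⟩⁻¹ * ⟨y⁻¹ * c * y, hyc⟩ from rfl, map_mul, map_inv, this, inv_mul_cancel]
  · rw [hker, zpowers_le, show QuotientGroup.mk' N c = ⁅QuotientGroup.mk' N A, QuotientGroup.mk' N B⁆
      from map_commutatorElement (QuotientGroup.mk' N) A B, _root_.commutator_def]
    exact Subgroup.commutator_mem_commutator (mem_top _) (mem_top _)
  · rw [hker, Nat.card_zpowers, hord]
  · rw [hker]
    infer_instance

end Cfsg.Agent.Lib.Compute.Transfer
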