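import Cfsg.Agent.Lib.Compute.Transfer.Abstract
import Cfsg.Agent.Lib.Compute.Monomial.Cover

/-!
# A transferred stem extension from certificates

A certified transitive group of permutations, a certified monomial cover of the stabiliser of the first
base point and, for two commuting elements, lifts of all their cocycle values.
-/

set_option autoImplicit false

namespace Cfsg.Agent.Lib.Compute.Transfer

open Monomial

/-- The lifts lie over the cocycle values of an element. -/
noncomputable def liftsCheck (w v m : ℕ) (O : Ops) (orb : Tree) (a : ℕ) (LX : List Lvl)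
    (fa : List (List ℕ)) : Bool :=
  (List.range m).all fun i =>
    match orb.find (getP v a i), orb.find i with
    | some ey, some ei =>
      forceNat ((permOps v m).mul ey.u ((permOps v m).mul a ei.v)) fun r =>
      forceNat (pathEval O LX (fa.getD i [])).1 fun c =>
        (List.range m).all fun j => Nat.beq (getP w c j) (getP v r j)
    | _, _ => false

/-- Code of the product of the local commutators. -/
noncomputable def transferProd (v : ℕ) (O : Ops) (a b : ℕ) (LX : List Lvl) (fa fb : List (List ℕ)) :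
    List ℕ → ℕ
  | [] => O.one
  | i :: is =>
    forceNat (O.mul (pathEval O LX (fa.getD (getP v b i) [])).1 (pathEval O LX (fb.getD i [])).1)
      fun x => forceNat (O.mul (pathEval O LX (fa.getD i [])).2
        (pathEval O LX (fb.getD (getP v a i) [])).2) fun y =>
      O.mul (O.mul x y) (transferProd v O a b LX fa fb is)

/-- The two elements commute and the product of their local commutators is not one. -/
noncomputable def transferCheck (v m : ℕ) (O : Ops) (a b : ℕ) (LX : List Lvl)
    (fa fb : List (List ℕ)) : Bool :=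
  Nat.beq ((permOps v m).mul a b) ((permOps v m).mul b a) &&
    !Nat.beq (transferProd v O a b LX fa fb (List.range m)) O.one

variable {m d p : ℕ} [Fact p.Prime]

theorem exists_transfer_of_check {w v : ℕ} (hm : m ≤ 2 ^ w) (hd : p * d ≤ 2 ^ w) (hv : m ≤ 2 ^ v)
    {S : List (ℕ × ℕ)} (hS : GensOK (permCoding v (Equiv.refl (Fin m)) hv) S) {l : Lvl} {ls : List Lvl}
    (hL : chainCheck (permOps v m) S (l :: ls) = true)
    (htrans : ((List.range m).all fun i => (l.orb.find i).isSome) = true) (hb : l.b < m)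
    {X : List (ℕ × ℕ)} (hX : GensOK (monCoding (d := d) (q := p) w (Equiv.refl (Fin m)) hm hd) X)
    (hproj : projCheck w v m X l.T = true) {LX : List Lvl}
    (hLX : chainCheck (monOps w m d p) X LX = true) (hsize : chainSize LX = p * chainSize ls)
    {ps : List (List ℕ × List ℕ)} (hker : monKerCheck (monOps w m d p) w m p X LX ps = true)
    {xa xb : List ℕ} {a b : ℕ} (ha : Nat.beq (pathEval (permOps v m) (l :: ls) xa).1 a = true)
    (hb' : Nat.beq (pathEval (permOps v m) (l :: ls) xb).1 b = true) {fa fb : List (List ℕ)}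
    (hfa : liftsCheck w v m (monOps w m d p) l.orb a LX fa = true)
    (hfb : liftsCheck w v m (monOps w m d p) l.orb b LX fb = true)
    (hchk : transferCheck v m (monOps w m d p) a b LX fa fb = true) :
    ∃ (E : Type) (_ : Group E) (_ : Finite E)
      (π : E →* genGroup (permCoding v (Equiv.refl (Fin m)) hv) S),
      Cfsg.IsStemExtension π ∧ Nat.card π.ker = p ∧ IsCyclic π.ker := by
  let C := permCoding v (Equiv.refl (Fin m)) hv
  let CX := monCoding (d := d) (q := p) w (Equiv.refl (Fin m)) hm hd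
  let Q := genGroup C S
  obtain ⟨hent, -, -, -, -, hrest⟩ := chainCheck_cons C hS hL
  obtain ⟨τ0, hτ0, hstem, hcard, -⟩ := exists_monomial_cover_spec (Equiv.refl (Fin m)) hm hd hv hX
    (gensOK_next C hS hL) hproj hLX hrest hsize hker
  let H : Subgroup Q := (genGroup C l.T).subgroupOf Q
  let eH : H ≃* genGroup C l.T := Subgroup.subgroupOfEquivOfLe (genGroup_next_le C hS hL)
  let τ : genGroup CX X →* H := eH.symm.toMonoidHom.comp τ0
  have hτ : ∀ x, ((τ x : Q) : Equiv.Perm (Fin m)) = (x : Equiv.Perm (Fin m) × monoSub d p).1 := fun x => by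
    rw [← hτ0 x]
    exact congrArg (fun y : genGroup C l.T => (y : Equiv.Perm (Fin m))) (eH.apply_symm_apply (τ0 x))
  have hact : ∀ (g : Equiv.Perm (Fin m)) (x : Fin m), (permOps v m).act (C.enc g) x = (g x : ℕ) :=
    fun g x => (permCoding_act v (Equiv.refl (Fin m)) hv g x)
  have hget : ∀ (g : Equiv.Perm (Fin m)) (x : Fin m), getP v (C.enc g) x = (g x : ℕ) := fun g x => by
    rw [permCoding_enc, getP_encP hv _ _ x.isLt]
    simp [imgP]
  have key : ∀ i : Fin m, ∃ g : Q, ∃ e : Ent, l.orb.find i = some e ∧ C.enc (g : Equiv.Perm (Fin m)) = e.v ∧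
      C.enc (g : Equiv.Perm (Fin m))⁻¹ = e.u ∧ (g : Equiv.Perm (Fin m)) ⟨l.b, hb⟩ = i := by
    intro i
    obtain ⟨e, he⟩ := Option.isSome_iff_exists.1 (List.all_eq_true.1 htrans i (List.mem_range.2 i.isLt))
    obtain ⟨⟨g, hg, g1, g2⟩, hx⟩ := hent e (Tree.find_some he).1
    simp only at g1 g2
    rw [← g1, hact g ⟨l.b, hb⟩, (Tree.find_some he).2] at hx
    exact ⟨⟨g, hg⟩, e, he, g1, g2, Fin.ext hx⟩
  choose t ent hent' ht1 ht2 ht3 using key
  have hsec : ∀ (g : Q) (i : Fin m), (t (g • i))⁻¹ * g * t i ∈ H := by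
    intro g i
    refine Subgroup.mem_subgroupOf.2 ((genGroup_next_eq C hS hL).2 ⟨Subtype.prop _, ?_⟩)
    refine (hact _ ⟨l.b, hb⟩).trans (congrArg Fin.val (?_ : _ = (⟨l.b, hb⟩ : Fin m)))
    rw [Subgroup.coe_mul, Subgroup.coe_mul, Subgroup.coe_inv, Equiv.Perm.mul_apply,
      Equiv.Perm.mul_apply, ht3 i, Equiv.Perm.inv_def, Equiv.symm_apply_eq, ht3 (g • i)]
    rfl
  obtain ⟨a', ha', ea, -⟩ := pairOK_pathEval C hS hL xa
  obtain ⟨b', hb'', eb, -⟩ := pairOK_pathEval C hS hL xb
  have ea : C.enc a' = a := ea.trans (Nat.eq_of_beq_eq_true ha)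
  have eb : C.enc b' = b := eb.trans (Nat.eq_of_beq_eq_true hb')
  have lifts : ∀ (g : Q) (c : ℕ), C.enc (g : Equiv.Perm (Fin m)) = c → ∀ f : List (List ℕ),
      liftsCheck w v m (monOps w m d p) l.orb c LX f = true → ∀ i : Fin m, ∃ x : genGroup CX X,
        (τ x : Q) = (t (g • i))⁻¹ * g * t i ∧
          CX.enc (x : Equiv.Perm (Fin m) × monoSub d p) = (pathEval (monOps w m d p) LX (f.getD i [])).1 ∧
          CX.enc (x : Equiv.Perm (Fin m) × monoSub d p)⁻¹ =
            (pathEval (monOps w m d p) LX (f.getD i [])).2 := by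
    intro g c hc f hf i
    obtain ⟨x, hx, x1, x2⟩ := pairOK_pathEval CX hX hLX (f.getD i [])
    refine ⟨⟨x, hx⟩, Subtype.ext ?_, x1, x2⟩
    have h := List.all_eq_true.1 hf i (List.mem_range.2 i.isLt)
    rw [← hc, hget, hent' ((g : Equiv.Perm (Fin m)) i), hent' i] at h
    simp only [forceNat_eq, List.all_eq_true, List.mem_range] at h
    rw [hτ]
    refine C.inj (packP_congr fun j hj => ?_)
    have hh := Nat.eq_of_beq_eq_true (h j hj)
    rw [← x1, monCoding_enc, getP_monImg hm hd _ _ (by omega), monImg_left _ _ hj, ← ht2, ← ht1,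
      C.mul_enc, C.mul_enc, permCoding_enc, getP_encP hv _ _ hj] at hh
    rw [hh, mul_assoc]
    rfl
  choose fA hA1 hA2 hA3 using lifts ⟨a', ha'⟩ a ea fa hfa
  choose fB hB1 hB2 hB3 using lifts ⟨b', hb''⟩ b eb fb hfb
  simp only [transferCheck, Bool.and_eq_true, Bool.not_eq_true'] at hchk
  have hab : (⟨a', ha'⟩ : Q) * ⟨b', hb''⟩ = ⟨b', hb''⟩ * ⟨a', ha'⟩ := by
    refine Subtype.ext (C.inj ?_)
    have := Nat.eq_of_beq_eq_true hchk.1
    rw [← ea, ← eb, C.mul_enc, C.mul_enc] at this
    exact this
  have hprod : ∀ L : List (Fin m),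
      CX.enc (((L.map fun i => (fA ((⟨b', hb''⟩ : Q) • i) * fB i) *
        (fB ((⟨a', ha'⟩ : Q) • i) * fA i)⁻¹).prod : genGroup CX X) : Equiv.Perm (Fin m) × monoSub d p) =
      transferProd v (monOps w m d p) a b LX fa fb (L.map Fin.val) := by
    intro L
    induction L with
    | nil => exact CX.one_enc
    | cons i L ih =>
      simp only [List.map_cons, List.prod_cons, transferProd, forceNat_eq]
      rw [← ih, ← ea, ← eb, hget, hget]
      rw [show ((b' i : Fin m) : ℕ) = (((⟨b', hb''⟩ : Q) • i : Fin m) : ℕ) from rfl,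
        show ((a' i : Fin m) : ℕ) = (((⟨a', ha'⟩ : Q) • i : Fin m) : ℕ) from rfl,
        ← hA2, ← hB2, ← hA3, ← hB3]
      simp only [CX.mul_enc, Subgroup.coe_mul, Subgroup.coe_inv, mul_inv_rev, mul_assoc]
  haveI : Finite (genGroup CX X) := Subtype.finite
  have hs : Function.Surjective τ := eH.symm.surjective.comp hstem.1
  have hk : τ.ker = τ0.ker := by
    ext x
    simp [τ, MonoidHom.mem_ker]
  exact exists_transfer_cover τ t hs (hk ▸ hstem.2.1) (p := p) (hk ▸ hcard) hsec hab hA1 hB1
    (List.nodup_finRange m) List.mem_finRange fun h => by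
      have h1 := hprod (List.finRange m)
      rw [List.map_coe_finRange_eq_range] at h1
      rw [h, Subgroup.coe_one, CX.one_enc] at h1
      rw [← h1, Nat.beq_refl] at hchk
      exact Bool.noConfusion hchk.2

end Cfsg.Agent.Lib.Compute.Transfer
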